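import Groth.Agent.Lib.EtCoord10.Line
import Groth.Agent.Lib.UnrMono.FieldDim
import Groth.Agent.Lib.Dim.Ring
import Groth.Agent.Lib.Dim.Morphism

/-! # A function without critical points near a boundary point -/

set_option autoImplicit false
set_option linter.all false
set_option backward.isDefEq.respectTransparency false

universe u

open TensorProduct IsLocalRing Module

noncomputable section

namespace GrothLib.UnitSmooth6

variable {k A : Type u} [Field k] [CommRing A] [Algebra k A]

/-- The differentials at a prime. -/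
abbrev V (q : PrimeSpectrum A) : Type u := q.asIdeal.ResidueField ⊗[A] Ω[A⁄k]

/-- The differential at a prime. -/
def Φ (q : PrimeSpectrum A) : A →ₗ[k] V (k := k) q :=
  ((TensorProduct.mk A q.asIdeal.ResidueField Ω[A⁄k] 1).restrictScalars k) ∘ₗ (KaehlerDifferential.D k A).toLinearMap

theorem Φ_apply (q : PrimeSpectrum A) (a : A) : Φ (k := k) q a = 1 ⊗ₜ KaehlerDifferential.D k A a := rfl

/-- The span of the differentials of a space of functions. -/
abbrev spanΦ (q : PrimeSpectrum A) (W : Submodule k A) : Submodule q.asIdeal.ResidueField (V (k := k) q) :=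
  Submodule.span _ (Φ q '' (W : Set A))

/-- The rank of a space of functions at a prime. -/
abbrev rk (q : PrimeSpectrum A) (W : Submodule k A) : ℕ := finrank q.asIdeal.ResidueField (spanΦ q W)

section

variable [Algebra.FiniteType k A]

theorem spanΦ_top (q : PrimeSpectrum A) (W : Submodule k A) (hW : Algebra.adjoin k (W : Set A) = ⊤) :
    spanΦ q W = ⊤ := by
  rw [eq_top_iff]
  have key : ∀ a : A, (1 : q.asIdeal.ResidueField) ⊗ₜ[A] KaehlerDifferential.D k A a ∈ spanΦ q W := by
    intro a
    have ha : a ∈ Algebra.adjoin k (W : Set A) := hW ▸ trivial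
    induction ha using Algebra.adjoin_induction with
    | mem x hx => exact Submodule.subset_span ⟨x, hx, rfl⟩
    | algebraMap r => simp
    | add x y _ _ hx hy => rw [map_add, TensorProduct.tmul_add]; exact add_mem hx hy
    | mul x y _ _ hx hy =>
      rw [Derivation.leibniz, TensorProduct.tmul_add, TensorProduct.tmul_smul, TensorProduct.tmul_smul,
        ← algebraMap_smul q.asIdeal.ResidueField x, ← algebraMap_smul q.asIdeal.ResidueField y]
      exact add_mem (Submodule.smul_mem _ _ hy) (Submodule.smul_mem _ _ hx)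
  intro v hv0
  clear hv0
  induction v using TensorProduct.induction_on with
  | zero => exact zero_mem _
  | add v w hv hw => exact add_mem hv hw
  | tmul c w =>
    rw [← mul_one c, ← smul_eq_mul, ← TensorProduct.smul_tmul']
    refine Submodule.smul_mem _ _ ?_
    have hw : w ∈ Submodule.span A (Set.range (KaehlerDifferential.D k A)) := by
      rw [KaehlerDifferential.span_range_derivation]; trivial
    induction hw using Submodule.span_induction with
    | mem x hx => obtain ⟨a, rfl⟩ := hx; exact key a
    | zero => rw [TensorProduct.tmul_zero]; exact zero_mem _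
    | add x y _ _ hx hy => rw [TensorProduct.tmul_add]; exact add_mem hx hy
    | smul a x _ hx =>
      rw [TensorProduct.tmul_smul, ← algebraMap_smul q.asIdeal.ResidueField a]
      exact Submodule.smul_mem _ _ hx

theorem exists_dim (q : PrimeSpectrum A) : ∃ n : ℕ, ringKrullDim (A ⧸ q.asIdeal) = n ∧ n ≤ finrank q.asIdeal.ResidueField (V (k := k) q) := by
  obtain ⟨n, h1, h2⟩ := GrothLib.Dim.exists_nat_trdeg_eq_and_ringKrullDim_eq k (A ⧸ q.asIdeal)
  refine ⟨n, h2, ?_⟩
  have h3 : Algebra.trdeg k q.asIdeal.ResidueField = n := by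
    have : Algebra.IsAlgebraic (A ⧸ q.asIdeal) q.asIdeal.ResidueField :=
      GrothLib.Dim.isAlgebraic_of_isLocalization (nonZeroDivisors _) le_rfl
    have : FaithfulSMul (A ⧸ q.asIdeal) q.asIdeal.ResidueField :=
      (faithfulSMul_iff_algebraMap_injective _ _).2 q.asIdeal.injective_algebraMap_quotient_residueField
    rw [← h1]
    exact GrothLib.Dim.trdeg_eq_of_algebraic
  haveI : Algebra.EssFiniteType k q.asIdeal.ResidueField := Algebra.EssFiniteType.comp k A _
  haveI : Algebra.FormallyUnramified A q.asIdeal.ResidueField :=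
    Algebra.FormallyUnramified.comp A (Localization.AtPrime q.asIdeal) _
  have h4 := GrothLib.UnrMono.trdeg_le_finrank_kaehler k q.asIdeal.ResidueField
  rw [h3, Nat.cast_le] at h4
  refine h4.trans (LinearMap.finrank_le_finrank_of_injective (f := ?_) ?_) |>.trans le_rfl
  · exact (LinearMap.exists_rightInverse_of_surjective (KaehlerDifferential.mapBaseChange k A q.asIdeal.ResidueField)
      (LinearMap.range_eq_top.2 fun y => (KaehlerDifferential.exact_mapBaseChange_map k A q.asIdeal.ResidueField y).1
        (Subsingleton.elim _ _))).choose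
  · exact Function.LeftInverse.injective (g := KaehlerDifferential.mapBaseChange k A q.asIdeal.ResidueField) fun y =>
      LinearMap.congr_fun (LinearMap.exists_rightInverse_of_surjective _
        (LinearMap.range_eq_top.2 fun y => (KaehlerDifferential.exact_mapBaseChange_map k A q.asIdeal.ResidueField y).1
          (Subsingleton.elim _ _))).choose_spec y

/-- The dimension of the closure of a prime. -/
def δ (q : PrimeSpectrum A) : ℕ := (exists_dim (k := k) q).choose

theorem δ_spec (q : PrimeSpectrum A) : ringKrullDim (A ⧸ q.asIdeal) = δ (k := k) q := (exists_dim (k := k) q).choose_spec.1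

theorem δ_le (q : PrimeSpectrum A) : δ (k := k) q ≤ finrank q.asIdeal.ResidueField (V (k := k) q) :=
  (exists_dim (k := k) q).choose_spec.2

theorem δ_lt {q' q : PrimeSpectrum A} (h : q' < q) : δ (k := k) q + 1 ≤ δ (k := k) q' := by
  obtain ⟨r, hr, hr'⟩ := SetLike.exists_of_lt (show q'.asIdeal < q.asIdeal from h)
  have hne : Ideal.Quotient.mk q'.asIdeal r ∈ nonZeroDivisors (A ⧸ q'.asIdeal) :=
    mem_nonZeroDivisors_of_ne_zero fun h0 => hr' (Ideal.Quotient.eq_zero_iff_mem.1 h0)
  have h1 := ringKrullDim_quotient_succ_le_of_nonZeroDivisor hne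
  have hle : Ideal.span {Ideal.Quotient.mk q'.asIdeal r} ≤ q.asIdeal.map (Ideal.Quotient.mk q'.asIdeal) := by
    rw [Ideal.span_singleton_le_iff_mem]
    exact Ideal.mem_map_of_mem _ hr
  have h2 := (ringKrullDim_le_of_surjective _ (Ideal.Quotient.factor_surjective hle)).trans
    (le_of_eq rfl : ringKrullDim ((A ⧸ q'.asIdeal) ⧸ Ideal.span {Ideal.Quotient.mk q'.asIdeal r}) ≤ _)
  rw [ringKrullDim_eq_of_ringEquiv (DoubleQuot.quotQuotEquivQuotOfLE (le_of_lt (show q'.asIdeal < q.asIdeal from h))), δ_spec (k := k) q] at h2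
  rw [δ_spec (k := k) q'] at h1
  have h3 := (add_le_add h2 (le_refl (1 : WithBot ℕ∞))).trans h1
  exact_mod_cast h3

theorem exists_lift_functional (q : PrimeSpectrum A) [Algebra.IsSmoothAt k q.asIdeal] (f : V (k := k) q →ₗ[q.asIdeal.ResidueField] q.asIdeal.ResidueField) :
    ∃ (h : Ω[A⁄k] →ₗ[A] A) (s : A), s ∉ q.asIdeal ∧
      ∀ w, algebraMap A q.asIdeal.ResidueField (h w) = algebraMap A _ s * f (1 ⊗ₜ w) := by
  let L := Localization.AtPrime q.asIdeal
  haveI : IsNoetherianRing A := Algebra.FiniteType.isNoetherianRing k A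
  haveI : Module.FinitePresentation A Ω[A⁄k] := Module.finitePresentation_of_finite _ _
  haveI : Algebra.FormallyEtale A L := Algebra.FormallyEtale.of_isLocalization q.asIdeal.primeCompl
  haveI : Module.Projective L (L ⊗[A] Ω[A⁄k]) :=
    Module.Projective.of_equiv (KaehlerDifferential.tensorKaehlerEquivOfFormallyEtale k A L).symm
  let F : L ⊗[A] Ω[A⁄k] →ₗ[L] q.asIdeal.ResidueField :=
    LinearMap.liftBaseChange L ((f.restrictScalars A) ∘ₗ TensorProduct.mk A q.asIdeal.ResidueField Ω[A⁄k] 1)
  obtain ⟨G, hG⟩ := Module.projective_lifting_property (Algebra.linearMap L q.asIdeal.ResidueField) F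
    IsLocalRing.residue_surjective
  obtain ⟨h, s, hs⟩ := Module.FinitePresentation.exists_lift_of_isLocalizedModule q.asIdeal.primeCompl
    (Algebra.linearMap A L) (G.restrictScalars A ∘ₗ TensorProduct.mk A L Ω[A⁄k] 1)
  refine ⟨h, s, s.2, fun w => ?_⟩
  have h1 : algebraMap A L (h w) = (s : A) • G (1 ⊗ₜ w) := LinearMap.congr_fun hs w
  have h2 : algebraMap L q.asIdeal.ResidueField (G (1 ⊗ₜ w)) = f (1 ⊗ₜ w) := by
    have := LinearMap.congr_fun hG (1 ⊗ₜ w)
    simpa [F] using this
  rw [IsScalarTower.algebraMap_apply A L q.asIdeal.ResidueField, h1, Algebra.smul_def, map_mul,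
    ← IsScalarTower.algebraMap_apply, h2]

/-- Independence of differentials is an open condition. -/
theorem exists_indep_nhd (q : PrimeSpectrum A) [Algebra.IsSmoothAt k q.asIdeal] {m : ℕ} (w : Fin m → A)
    (hw : LinearIndependent q.asIdeal.ResidueField fun i => Φ (k := k) q (w i)) :
    ∃ h : A, h ∉ q.asIdeal ∧ ∀ q' : PrimeSpectrum A, h ∉ q'.asIdeal →
      LinearIndependent q'.asIdeal.ResidueField fun i => Φ (k := k) q' (w i) := by
  classical
  obtain ⟨r, hr⟩ := LinearMap.exists_leftInverse_of_injective (Fintype.linearCombination q.asIdeal.ResidueField (fun i => Φ (k := k) q (w i)))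
    (LinearMap.ker_eq_bot.2 fun a b hab => funext (Fintype.linearIndependent_iffₛ.1 hw a b (by
      simpa [Fintype.linearCombination_apply] using hab)))
  have hrw : ∀ i j, r (Φ (k := k) q (w j)) i = if i = j then 1 else 0 := fun i j => by
    have := congrFun (LinearMap.congr_fun hr (Pi.single j 1)) i
    simpa [Fintype.linearCombination_apply_single, Pi.single_apply] using this
  choose h s hs hh using fun i => exists_lift_functional q (LinearMap.proj i ∘ₗ r)
  let M : Matrix (Fin m) (Fin m) A := fun i j => h i (KaehlerDifferential.D k A (w j))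
  refine ⟨M.det, fun hmem => ?_, fun q' hq' => ?_⟩
  · have h1 : M.map (algebraMap A q.asIdeal.ResidueField) = Matrix.diagonal fun i => algebraMap A _ (s i) := by
      ext i j
      show algebraMap A _ (h i _) = _
      rw [hh, LinearMap.comp_apply, ← Φ_apply, LinearMap.proj_apply, hrw, Matrix.diagonal_apply]
      split_ifs <;> simp
    have h2 : algebraMap A q.asIdeal.ResidueField M.det = 0 :=
      (Ideal.algebraMap_residueField_eq_zero).2 hmem
    rw [RingHom.map_det, RingHom.mapMatrix_apply, h1, Matrix.det_diagonal, Finset.prod_eq_zero_iff] at h2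
    obtain ⟨i, -, hi⟩ := h2
    exact hs i (Ideal.algebraMap_residueField_eq_zero.1 hi)
  · rw [Fintype.linearIndependent_iff]
    intro c hc
    have h1 : ∀ i, ∑ j, algebraMap A q'.asIdeal.ResidueField (M i j) * c j = 0 := fun i => by
      have := congrArg (LinearMap.liftBaseChange q'.asIdeal.ResidueField (Algebra.linearMap A q'.asIdeal.ResidueField ∘ₗ h i)) hc
      rw [map_sum, map_zero] at this
      rw [← this]
      refine Finset.sum_congr rfl fun j _ => ?_
      rw [map_smul, Φ_apply, LinearMap.liftBaseChange_tmul, one_smul, smul_eq_mul, mul_comm]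
      rfl
    exact congrFun (Matrix.eq_zero_of_mulVec_eq_zero (M := M.map (algebraMap A q'.asIdeal.ResidueField))
      (by rw [← RingHom.mapMatrix_apply, ← RingHom.map_det]; exact fun h0 => hq' (Ideal.algebraMap_residueField_eq_zero.1 h0))
      (funext h1))

variable (O : TopologicalSpace.Opens (PrimeSpectrum A)) (hO : ∀ q ∈ O, Algebra.IsSmoothAt k q.asIdeal)
  (p : PrimeSpectrum A)

/-- The invariant of the descent. -/
def Good (W : Submodule k A) (j : ℕ) : Prop :=
  ∀ q ∈ O, q ≤ p → min j (δ (k := k) q) ≤ rk q W ∧ (q = p → 1 ≤ rk q W)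

include hO in
theorem finite_critical {W : Submodule k A} {j : ℕ} (hW : Good O p W j) {r : ℕ} (hr : r < j) :
    {q : PrimeSpectrum A | q ∈ O ∧ q ≤ p ∧ δ (k := k) q = r ∧ rk q W ≤ r}.Finite := by
  haveI : IsNoetherianRing A := Algebra.FiniteType.isNoetherianRing k A
  set T := {q : PrimeSpectrum A | q ∈ O ∧ q ≤ p ∧ δ (k := k) q = r ∧ rk q W ≤ r}
  refine Set.Finite.subset ((Ideal.finite_minimalPrimes_of_isNoetherianRing A (PrimeSpectrum.vanishingIdeal T)).preimage
    (f := PrimeSpectrum.asIdeal) (fun a _ b _ h => PrimeSpectrum.ext h)) fun q hq => ?_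
  obtain ⟨hqO, hqp, hqδ, hqr⟩ := hq
  have hq' : q ∈ T := ⟨hqO, hqp, hqδ, hqr⟩
  show q.asIdeal ∈ (PrimeSpectrum.vanishingIdeal T).minimalPrimes
  obtain ⟨η, hη, hηq⟩ := Ideal.exists_minimalPrimes_le (PrimeSpectrum.subset_zeroLocus_vanishingIdeal T hq' : PrimeSpectrum.vanishingIdeal T ≤ q.asIdeal)
  let η' : PrimeSpectrum A := ⟨η, hη.1.1⟩
  haveI : η'.asIdeal.IsPrime := η'.isPrime
  have hle : η' ≤ q := hηq
  rcases hle.eq_or_lt with h | h
  · rw [← h]; exact hη
  exfalso
  have hηO : η' ∈ O := ((PrimeSpectrum.le_iff_specializes _ _).1 hle).mem_open O.2 hqO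
  haveI := hO η' hηO
  have hηr : rk η' W ≤ r := by
    by_contra hcon
    obtain ⟨v, hv, -, hvi⟩ := Submodule.exists_fun_fin_finrank_span_eq η'.asIdeal.ResidueField (Φ (k := k) η' '' (W : Set A))
    choose w hwW hwv using fun i => hv i
    obtain ⟨g, hg, hgi⟩ := exists_indep_nhd η' (fun i : Fin (r + 1) => w (Fin.castLE (by simp only [rk, spanΦ, not_le] at hcon; omega) i)) (by
      rw [show v = fun i => Φ η' (w i) from funext fun i => (hwv i).symm] at hvi
      exact hvi.comp _ (Fin.castLE_injective _))
    have hcl : η' ∈ closure T := by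
      rw [← PrimeSpectrum.zeroLocus_vanishingIdeal_eq_closure, PrimeSpectrum.mem_zeroLocus]
      exact hη.1.2
    obtain ⟨t, htg, htT⟩ := mem_closure_iff.1 hcl _ (PrimeSpectrum.basicOpen g).2 hg
    have h5 := (hgi t htg)
    have h6 : r + 1 ≤ rk t W := by
      have := finrank_span_eq_card h5
      rw [Fintype.card_fin] at this
      rw [← this]
      exact Submodule.finrank_mono (Submodule.span_mono (by rintro _ ⟨i, rfl⟩; exact ⟨_, hwW _, rfl⟩))
    have := htT.2.2.2
    omega
  have h7 := (hW η' hηO (hle.trans hqp)).1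
  have h8 := δ_lt (k := k) h
  omega

set_option maxHeartbeats 1600000 in
include hO in
/-- Lowering the dimension of the space of functions by one. -/
theorem descend [Infinite k] {W : Submodule k A} [FiniteDimensional k W] {j : ℕ} (hj : finrank k W = j) (hj2 : 2 ≤ j)
    (hW : Good O p W j) : ∃ W' : Submodule k A, FiniteDimensional k W' ∧ finrank k W' = j - 1 ∧ Good O p W' (j - 1) := by
  classical
  let b := Module.finBasisOfFinrankEq k W hj
  let T : Set (PrimeSpectrum A) := (⋃ r ∈ Finset.range j, {q | q ∈ O ∧ q ≤ p ∧ δ (k := k) q = r ∧ rk q W ≤ r}) ∪ {p}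
  have hT : T.Finite := ((Finset.range j).finite_toSet.biUnion fun r hr =>
    finite_critical O hO p hW (Finset.mem_range.1 hr)).union (Set.finite_singleton p)
  have hB : ∀ q : PrimeSpectrum A, ∃ B : Submodule k (Module.Dual k W), B ≠ ⊤ ∧
      (rk q W < j → ∀ a ∉ B, spanΦ q (Submodule.map W.subtype (LinearMap.ker a)) = spanΦ q W) := by
    intro q
    by_cases hlt : rk q W < j
    · have hdep : ¬ LinearIndependent q.asIdeal.ResidueField fun i => Φ (k := k) q (b i : A) := fun hli => by
        have := finrank_span_eq_card hli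
        rw [Fintype.card_fin] at this
        have h2 : Submodule.span q.asIdeal.ResidueField (Set.range fun i => Φ (k := k) q (b i : A)) ≤ spanΦ q W :=
          Submodule.span_mono (by rintro _ ⟨i, rfl⟩; exact ⟨_, (b i).2, rfl⟩)
        have h3 := Submodule.finrank_mono h2
        simp only [rk] at hlt h3
        omega
      rw [Fintype.linearIndependent_iff] at hdep
      push Not at hdep
      obtain ⟨c, hc, i₀, hi₀⟩ := hdep
      let B : Submodule k (Module.Dual k W) :=
        LinearMap.ker (∑ i, c i • ((Algebra.linearMap k q.asIdeal.ResidueField) ∘ₗ (LinearMap.applyₗ (b i))) :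
          Module.Dual k W →ₗ[k] q.asIdeal.ResidueField)
      refine ⟨B, fun htop => hi₀ ?_, fun _ a ha => ?_⟩
      · have : b.coord i₀ ∈ B := htop ▸ trivial
        simpa [B, Finsupp.single_apply, eq_comm] using this
      · have hμ : ∑ i, c i * algebraMap k _ (a (b i)) ≠ 0 := fun h0 => ha (by simpa [B] using h0)
        obtain ⟨i₁, hi₁⟩ : ∃ i, a (b i) ≠ 0 := by
          by_contra h; push Not at h; exact hμ (by simp [h])
        let w₀ : W := (a (b i₁))⁻¹ • b i₁
        have hw₀ : a w₀ = 1 := by simp [w₀, hi₁]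
        have hker : ∀ w : W, Φ (k := k) q ((w - a w • w₀ : W) : A) ∈ spanΦ q (Submodule.map W.subtype (LinearMap.ker a)) :=
          fun w => Submodule.subset_span ⟨_, Submodule.mem_map_of_mem (f := W.subtype) (r := w - a w • w₀)
            (LinearMap.mem_ker.2 (by simp [hw₀])), rfl⟩
        have hdec : ∀ w : W, Φ (k := k) q ((w - a w • w₀ : W) : A) =
            Φ q (w : A) - algebraMap k q.asIdeal.ResidueField (a w) • Φ q (w₀ : A) := fun w => by
          rw [Submodule.coe_sub, Submodule.coe_smul, map_sub, map_smul, algebraMap_smul]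
        have h0 : Φ (k := k) q (w₀ : A) ∈ spanΦ q (Submodule.map W.subtype (LinearMap.ker a)) := by
          have h1 : ∑ i, c i • Φ (k := k) q ((b i - a (b i) • w₀ : W) : A) ∈ spanΦ q (Submodule.map W.subtype (LinearMap.ker a)) :=
            Submodule.sum_mem _ fun i _ => Submodule.smul_mem _ _ (hker _)
          simp only [hdec, smul_sub, smul_smul, Finset.sum_sub_distrib, hc, zero_sub, ← Finset.sum_smul] at h1
          exact (Submodule.smul_mem_iff _ (neg_ne_zero.2 hμ)).1 (by rwa [neg_smul])
        refine le_antisymm (Submodule.span_mono (Set.image_mono fun x ⟨w, _, hw⟩ => hw ▸ w.2)) (Submodule.span_le.2 ?_)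
        rintro _ ⟨x, hx, rfl⟩
        have := add_mem (hker ⟨x, hx⟩) (Submodule.smul_mem _ (algebraMap k q.asIdeal.ResidueField (a ⟨x, hx⟩)) h0)
        rw [hdec, sub_add_cancel] at this
        exact this
    · exact ⟨⊥, fun h => by
        have : b.coord ⟨0, by omega⟩ ∈ (⊥ : Submodule k (Module.Dual k W)) := h ▸ trivial
        have := LinearMap.congr_fun ((Submodule.mem_bot k).1 this) (b ⟨0, by omega⟩)
        simp at this, fun h => absurd h hlt⟩
  choose B hBne hBgood using hB
  let s : Finset (Submodule k (Module.Dual k W)) := insert ⊥ ((hT.image B).toFinset)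
  have hs : ⊤ ∉ s := by
    simp only [s, Finset.mem_insert, Set.Finite.mem_toFinset, Set.mem_image, not_or, not_exists, not_and]
    refine ⟨fun h => ?_, fun q _ => hBne q⟩
    have : b.coord ⟨0, by omega⟩ ∈ (⊥ : Submodule k (Module.Dual k W)) := h ▸ trivial
    have := LinearMap.congr_fun ((Submodule.mem_bot k).1 this) (b ⟨0, by omega⟩)
    simp at this
  obtain ⟨a, ha⟩ := (Set.ne_univ_iff_exists_notMem _).mp (Subspace.biUnion_ne_univ_of_top_notMem hs)
  simp only [Set.mem_iUnion, not_exists] at ha
  have ha0 : a ≠ 0 := fun h => ha ⊥ (Finset.mem_insert_self _ _) (h ▸ zero_mem _)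
  have haT : ∀ q ∈ T, rk q W < j → spanΦ q (Submodule.map W.subtype (LinearMap.ker a)) = spanΦ q W := fun q hq hlt =>
    hBgood q hlt a (ha (B q) (Finset.mem_insert_of_mem ((Set.Finite.mem_toFinset _).2 ⟨q, hq, rfl⟩)))
  refine ⟨Submodule.map W.subtype (LinearMap.ker a), inferInstance, ?_, fun q hqO hqp => ?_⟩
  · rw [Submodule.finrank_map_subtype_eq, Module.Dual.finrank_ker_add_one_of_ne_zero ha0 |> fun h => (Nat.eq_sub_of_add_eq h), hj]
  · set W' := Submodule.map W.subtype (LinearMap.ker a)
    obtain ⟨h1, h2⟩ := hW q hqO hqp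
    obtain ⟨w₁, hw₁⟩ : ∃ w : W, a w = 1 := by
      obtain ⟨w, hw⟩ : ∃ w, a w ≠ 0 := by by_contra h; push Not at h; exact ha0 (LinearMap.ext fun w => by simpa using h w)
      exact ⟨(a w)⁻¹ • w, by simp [hw]⟩
    have hdrop : rk q W ≤ rk q W' + 1 := by
      have hle : spanΦ q W ≤ spanΦ q W' ⊔ Submodule.span _ {Φ (k := k) q (w₁ : A)} := by
        refine Submodule.span_le.2 ?_
        rintro _ ⟨x, hx, rfl⟩
        have hxe : Φ (k := k) q x = Φ q ((⟨x, hx⟩ - a ⟨x, hx⟩ • w₁ : W) : A) +
            algebraMap k q.asIdeal.ResidueField (a ⟨x, hx⟩) • Φ q (w₁ : A) := by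
          rw [Submodule.coe_sub, Submodule.coe_smul, map_sub, map_smul, algebraMap_smul, sub_add_cancel]
        rw [SetLike.mem_coe, hxe]
        exact Submodule.add_mem_sup (Submodule.subset_span ⟨_, Submodule.mem_map_of_mem (f := W.subtype) (r := (⟨x, hx⟩ : W) - a ⟨x, hx⟩ • w₁)
          (LinearMap.mem_ker.2 (by simp [hw₁])), rfl⟩)
          (Submodule.smul_mem _ _ (Submodule.mem_span_singleton_self _))
      refine (Submodule.finrank_mono hle).trans ((Submodule.finrank_add_le_finrank_add_finrank _ _).trans ?_)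
      exact Nat.add_le_add_left ((finrank_span_le_card _).trans (by simp)) _
    refine ⟨?_, fun hq => ?_⟩
    · by_contra hcon
      have hlt : rk q W < j := by omega
      have hq : q ∈ T := by
        refine Or.inl (Set.mem_iUnion₂.2 ⟨δ (k := k) q, Finset.mem_range.2 (by omega), hqO, hqp, rfl, by omega⟩)
      have : rk q W' = rk q W := by show finrank _ (spanΦ q W') = _; rw [haT q hq hlt]
      omega
    · have := h2 hq
      by_cases hlt : rk q W < j
      · have h9 : rk q W' = rk q W := by show finrank _ (spanΦ q W') = _; rw [haT q (Or.inr hq) hlt]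
        omega
      · omega

include hO in
/-- A function without critical points near `p` in `O`. -/
theorem exists_good_element [Infinite k] [Algebra.FinitePresentation k A] (hp : p ∈ O → p.asIdeal.IsMaximal → ∃ q < p, True) :
    ∃ g : A, g ∉ p.asIdeal ∧ ∀ q ∈ O, q ≤ p → Φ (k := k) q g ≠ 0 := by
  classical
  haveI : IsNoetherianRing A := Algebra.FiniteType.isNoetherianRing k A
  haveI := p.isPrime
  haveI : Nontrivial A := nontrivial_of_ne (0 : A) 1 fun h => p.isPrime.ne_top ((Ideal.eq_top_iff_one _).2 (h ▸ zero_mem _))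
  obtain ⟨t, ht⟩ := Algebra.FiniteType.out (R := k) (A := A)
  let W₀ : Submodule k A := Submodule.span k (insert 1 (t : Set A))
  haveI : FiniteDimensional k W₀ := FiniteDimensional.span_of_finite k (t.finite_toSet.insert 1)
  have hadj : Algebra.adjoin k (W₀ : Set A) = ⊤ := eq_top_iff.2 (ht ▸ Algebra.adjoin_mono (fun x hx => Submodule.subset_span (Set.mem_insert_of_mem _ hx)))
  have hpos : 1 ≤ finrank k W₀ := Module.finrank_pos_iff_exists_ne_zero.2
    ⟨⟨1, Submodule.subset_span (Set.mem_insert _ _)⟩, fun h => one_ne_zero (congrArg Subtype.val h)⟩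
  have hbase : Good O p W₀ (finrank k W₀) := fun q hqO hqp => by
    have hrk : rk q W₀ = finrank q.asIdeal.ResidueField (V (k := k) q) := by
      show finrank _ (spanΦ q W₀) = _
      rw [spanΦ_top q W₀ hadj, finrank_top]
    rw [hrk]
    refine ⟨(min_le_right _ _).trans (δ_le q), ?_⟩
    rintro rfl
    by_cases hmax : q.asIdeal.IsMaximal
    · obtain ⟨q', hq', -⟩ := hp hqO hmax
      haveI := hO q hqO
      by_contra hcon
      have hsub : Subsingleton (V (k := k) q) := Module.finrank_zero_iff.1 (show finrank q.asIdeal.ResidueField (V (k := k) q) = 0 by omega)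
      let L := Localization.AtPrime q.asIdeal
      haveI : Algebra.EssFiniteType k L := Algebra.EssFiniteType.comp k A L
      haveI : Algebra.FormallyEtale A L := Algebra.FormallyEtale.of_isLocalization q.asIdeal.primeCompl
      haveI : Subsingleton (ResidueField L ⊗[L] Ω[L⁄k]) :=
        (((TensorProduct.AlgebraTensorModule.congr (LinearEquiv.refl L (ResidueField L))
          (KaehlerDifferential.tensorKaehlerEquivOfFormallyEtale k A L).symm) ≪≫ₗ
          (TensorProduct.AlgebraTensorModule.cancelBaseChange A L L (ResidueField L) Ω[A⁄k])).toEquiv).subsingleton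
      haveI : Subsingleton Ω[L⁄k] := (IsLocalRing.subsingleton_tensorProduct (R := L) (M := Ω[L⁄k])).1 ‹_›
      haveI : Algebra.FormallyUnramified k L := ⟨inferInstance⟩
      haveI : Module.Finite k L := Algebra.FormallyUnramified.finite_of_free k L
      haveI : IsArtinianRing L := IsArtinianRing.of_finite k L
      let Q := q'.asIdeal.map (algebraMap A L)
      have hdisj : Disjoint (q.asIdeal.primeCompl : Set A) q'.asIdeal :=
        Set.disjoint_left.2 fun x hx hx' => hx (le_of_lt (show q'.asIdeal < q.asIdeal from hq') hx')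
      haveI : Q.IsPrime := IsLocalization.isPrime_of_isPrime_disjoint q.asIdeal.primeCompl L _ q'.isPrime hdisj
      have hQ := IsLocalRing.eq_maximalIdeal (IsArtinianRing.isMaximal_of_isPrime Q)
      have h10 := IsLocalization.comap_map_of_isPrime_disjoint q.asIdeal.primeCompl L q'.isPrime hdisj
      rw [show q'.asIdeal.map (algebraMap A L) = IsLocalRing.maximalIdeal L from hQ,
        IsLocalization.AtPrime.comap_maximalIdeal L q.asIdeal] at h10
      exact (show q'.asIdeal < q.asIdeal from hq').ne h10.symm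
    · have hδ : 1 ≤ δ (k := k) q := by
        obtain ⟨m, hm, hle⟩ := Ideal.exists_le_maximal q.asIdeal q.isPrime.ne_top
        have := δ_lt (k := k) (q' := q) (q := ⟨m, hm.isPrime⟩) (lt_of_le_of_ne hle fun h => hmax (congrArg PrimeSpectrum.asIdeal h ▸ hm))
        omega
      exact hδ.trans (δ_le q)
  suffices ∀ j (W : Submodule k A), FiniteDimensional k W → finrank k W = j → 1 ≤ j → Good O p W j →
      ∃ g : A, ∀ q ∈ O, q ≤ p → Φ (k := k) q g ≠ 0 by
    obtain ⟨g, hg⟩ := this _ W₀ inferInstance rfl hpos hbase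
    by_cases hgp : g ∈ p.asIdeal
    · refine ⟨g + 1, fun h => p.isPrime.ne_top ((Ideal.eq_top_iff_one _).2 ((Submodule.add_mem_iff_right _ hgp).1 h)),
        fun q h1 h2 => ?_⟩
      simpa [Φ_apply] using hg q h1 h2
    · exact ⟨g, hgp, hg⟩
  intro j
  induction j with
  | zero => intro W _ _ h; omega
  | succ n ih =>
    intro W _ hWn _ hgood
    rcases Nat.eq_zero_or_pos n with rfl | hn
    · obtain ⟨g, hg⟩ := (finrank_eq_one_iff' (K := k) (V := W)).1 hWn
      refine ⟨(g : A), fun q hqO hqp h0 => ?_⟩
      have hrk : rk q W = 0 := by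
        have : spanΦ q W = ⊥ := by
          refine le_bot_iff.1 (Submodule.span_le.2 ?_)
          rintro _ ⟨x, hx, rfl⟩
          obtain ⟨c, hc⟩ := hg.2 ⟨x, hx⟩
          rw [SetLike.mem_coe, Submodule.mem_bot, show x = c • (g : A) from (congrArg Subtype.val hc).symm, map_smul, h0, smul_zero]
        simp [rk, this]
      obtain ⟨h1, h2⟩ := hgood q hqO hqp
      by_cases hqp' : q = p
      · have := h2 hqp'; omega
      · have := δ_lt (k := k) (lt_of_le_of_ne hqp hqp')
        omega
    · obtain ⟨W', hfin, hr, hgood'⟩ := descend O hO p hWn (by omega) hgood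
      exact ih W' hfin hr hn (by simpa using hgood')

end

end GrothLib.UnitSmooth6
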